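import Groth.Agent.EtAcyc.K157.ClDef
import Groth.Agent.EtAcyc.K548.AcBasic
import Groth.Agent.Pi1A.ClopenCrit
import Groth.Agent.Pi1.H408.PrincRestrict

/-!
# Products of principal covers and clopen subsets

* `cBij_of_square`: two out of three for bijections on clopen subsets.
* `prodF P Q`, `isPrincipal_prod`: the product of a principal `G`-cover and a principal `H`-cover is a principal
  `G × H`-cover.
* `exists_iso_of_cBij`: two principal covers whose pull-backs along `k` are equivariantly isomorphic are equivariantly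
  isomorphic as soon as clopen subsets of `P`, `Q` and `P ×_X Q` are controlled by their pull-backs.
-/

set_option autoImplicit false
universe u

open CategoryTheory CategoryTheory.Limits AlgebraicGeometry IsLocalRing

namespace K439.ClFin

open K157.ClDef

/-! ### Clopen subsets -/

theorem eq_of_preimage {T' T : Scheme.{u}} {g : T' ⟶ T} (h : CInj g) {E F : Set T} (hE : IsClopen E)
    (hF : IsClopen F) (he : g ⁻¹' E = g ⁻¹' F) : E = F := by
  have h1 : E \ F = ∅ := h _ (hE.diff hF) (by rw [Set.preimage_sdiff, he, Set.sdiff_self])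
  have h2 : F \ E = ∅ := h _ (hF.diff hE) (by rw [Set.preimage_sdiff, he, Set.sdiff_self])
  exact Set.Subset.antisymm (Set.sdiff_eq_empty.1 h1) (Set.sdiff_eq_empty.1 h2)

theorem cBij_of_square {W' W T' T : Scheme.{u}} (p : W' ⟶ W) (a : W ⟶ T) (a' : W' ⟶ T') (k : T' ⟶ T)
    (h : a' ≫ k = p ≫ a) (ha : CBij a) (hp : CBij p) (ha' : CBij a') : CBij k := by
  have key : ∀ E : Set T, a' ⁻¹' (k ⁻¹' E) = p ⁻¹' (a ⁻¹' E) := by
    intro E
    ext w
    have h1 : k (a' w) = a (p w) := by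
      rw [← Scheme.Hom.comp_apply, h, Scheme.Hom.comp_apply]
    change k (a' w) ∈ E ↔ a (p w) ∈ E
    rw [h1]
  refine ⟨fun E hE he => ?_, fun E' hE' => ?_⟩
  · refine ha.1 E hE (hp.1 _ (hE.preimage a.continuous) ?_)
    rw [← key, he]
    rfl
  · obtain ⟨F, hF, hF'⟩ := hp.2 _ (hE'.preimage a'.continuous)
    obtain ⟨E, hE, hE1⟩ := ha.2 F hF
    refine ⟨E, hE, eq_of_preimage ha'.1 (hE.preimage k.continuous) hE' ?_⟩
    rw [key, hE1, hF']

theorem cBij_of_isIso {T' T : Scheme.{u}} (g : T' ⟶ T) [IsIso g] : CBij g := by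
  refine ⟨fun E _ he => ?_, fun E' hE' => ⟨(inv g) ⁻¹' E', hE'.preimage (inv g).continuous, ?_⟩⟩
  · rw [Set.eq_empty_iff_forall_notMem]
    intro x hx
    have h1 : (inv g) x ∈ g ⁻¹' E := by
      change g ((inv g) x) ∈ E
      rw [← Scheme.Hom.comp_apply, IsIso.inv_hom_id]
      exact hx
    rw [he] at h1
    exact h1
  · ext x
    change (inv g) (g x) ∈ E' ↔ _
    rw [← Scheme.Hom.comp_apply, IsIso.hom_inv_id]
    rfl

theorem cBij_comp {T'' T' T : Scheme.{u}} {g : T'' ⟶ T'} {k : T' ⟶ T} (hg : CBij g) (hk : CBij k) :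
    CBij (g ≫ k) := by
  refine ⟨fun E hE he => hk.1 E hE (hg.1 _ (hE.preimage k.continuous) ?_), fun E' hE' => ?_⟩
  · rw [← he]
    ext w
    change k (g w) ∈ E ↔ (g ≫ k) w ∈ E
    rw [Scheme.Hom.comp_apply]
  · obtain ⟨F, hF, rfl⟩ := hg.2 _ hE'
    obtain ⟨E, hE, rfl⟩ := hk.2 _ hF
    refine ⟨E, hE, ?_⟩
    ext w
    change (g ≫ k) w ∈ E ↔ k (g w) ∈ E
    rw [Scheme.Hom.comp_apply]

theorem cBij_of_isPullback {W X Y Z : Scheme.{u}} {a : W ⟶ X} {b : W ⟶ Y} {x : X ⟶ Z} {y : Y ⟶ Z}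
    (h : IsPullback a b x y) (hc : CBij (pullback.fst x y)) : CBij a := by
  rw [← h.isoPullback_hom_fst]
  exact cBij_comp (cBij_of_isIso _) hc

theorem cBij_fst_of_isPullback {W X Y Z : Scheme.{u}} {a : W ⟶ X} {b : W ⟶ Y} {x : X ⟶ Z} {y : Y ⟶ Z}
    (h : IsPullback a b x y) (hc : CBij a) : CBij (pullback.fst x y) := by
  rw [← h.isoPullback_inv_fst]
  exact cBij_comp (cBij_of_isIso _) hc

theorem cBij_of_isCSub {T' T : Scheme.{u}} {g : T' ⟶ T} (h : K548.Ac.IsCSub g) : CBij g := by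
  refine ⟨fun E _ he => ?_, fun E' hE' => ?_⟩
  · rw [Set.eq_empty_iff_forall_notMem]
    intro x hx
    obtain ⟨y, rfl⟩ := h.surjective x
    have h1 : y ∈ g ⁻¹' E := hx
    rw [he] at h1
    exact h1
  · obtain ⟨D, hD, e⟩ := h.exists_clopen hE'
    exact ⟨D, hD, e.symm⟩

/-! ### Products of covers -/

section Prod

set_option backward.isDefEq.respectTransparency false

open Groth.Agent.Pi1A.ClopenCrit

variable {Z : Scheme.{u}}

/-- The product of two finite étale covers. -/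
noncomputable def prodF (P Q : FEt.Cat Z) : FEt.Cat Z :=
  MorphismProperty.Over.mk _ (pullback.fst P.hom Q.hom ≫ P.hom) ⟨inferInstance, inferInstance⟩

/-- Functoriality of the product. -/
noncomputable def mapF {P P' Q Q' : FEt.Cat Z} (a : P ⟶ P') (b : Q ⟶ Q') : prodF P Q ⟶ prodF P' Q' :=
  MorphismProperty.Over.homMk
    (pullback.lift (pullback.fst P.hom Q.hom ≫ a.left) (pullback.snd P.hom Q.hom ≫ b.left) (by
      rw [Category.assoc, Category.assoc, w a, w b, pullback.condition]))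
    (by
      change pullback.lift _ _ _ ≫ pullback.fst P'.hom Q'.hom ≫ P'.hom = pullback.fst P.hom Q.hom ≫ P.hom
      rw [pullback.lift_fst_assoc, Category.assoc, w a])

theorem mapF_fst {P P' Q Q' : FEt.Cat Z} (a : P ⟶ P') (b : Q ⟶ Q') :
    (mapF a b).left ≫ pullback.fst P'.hom Q'.hom = pullback.fst P.hom Q.hom ≫ a.left :=
  pullback.lift_fst _ _ _

theorem mapF_snd {P P' Q Q' : FEt.Cat Z} (a : P ⟶ P') (b : Q ⟶ Q') :
    (mapF a b).left ≫ pullback.snd P'.hom Q'.hom = pullback.snd P.hom Q.hom ≫ b.left :=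
  pullback.lift_snd _ _ _

theorem prodF_ext {P' Q' : FEt.Cat Z} {T : FEt.Cat Z} {x y : T ⟶ prodF P' Q'}
    (h1 : x.left ≫ pullback.fst P'.hom Q'.hom = y.left ≫ pullback.fst P'.hom Q'.hom)
    (h2 : x.left ≫ pullback.snd P'.hom Q'.hom = y.left ≫ pullback.snd P'.hom Q'.hom) : x = y := by
  apply MorphismProperty.Over.Hom.ext
  exact pullback.hom_ext h1 h2

theorem mapF_comp {P P' P'' Q Q' Q'' : FEt.Cat Z} (a : P ⟶ P') (b : Q ⟶ Q') (a' : P' ⟶ P'') (b' : Q' ⟶ Q'') :
    mapF a b ≫ mapF a' b' = mapF (a ≫ a') (b ≫ b') := by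
  apply prodF_ext
  · change ((mapF a b).left ≫ (mapF a' b').left) ≫ _ = _
    rw [Category.assoc, mapF_fst, mapF_fst, ← Category.assoc, mapF_fst, Category.assoc]
    rfl
  · change ((mapF a b).left ≫ (mapF a' b').left) ≫ _ = _
    rw [Category.assoc, mapF_snd, mapF_snd, ← Category.assoc, mapF_snd, Category.assoc]
    rfl

theorem mapF_id (P Q : FEt.Cat Z) : mapF (𝟙 P) (𝟙 Q) = 𝟙 (prodF P Q) := by
  apply prodF_ext
  · rw [mapF_fst]
    exact (Category.comp_id (pullback.fst P.hom Q.hom)).trans (Category.id_comp (pullback.fst P.hom Q.hom)).symm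
  · rw [mapF_snd]
    exact (Category.comp_id (pullback.snd P.hom Q.hom)).trans (Category.id_comp (pullback.snd P.hom Q.hom)).symm

/-- The product action. -/
noncomputable def actF {P Q : FEt.Cat Z} {G H : Type} [Group G] [Group H] (ρ : G →* Aut P) (τ : H →* Aut Q) :
    G × H →* Aut (prodF P Q) where
  toFun x :=
    { hom := mapF (ρ x.1).hom (τ x.2).hom
      inv := mapF (ρ x.1).inv (τ x.2).inv
      hom_inv_id := by rw [mapF_comp, Iso.hom_inv_id, Iso.hom_inv_id, mapF_id]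
      inv_hom_id := by rw [mapF_comp, Iso.inv_hom_id, Iso.inv_hom_id, mapF_id] }
  map_one' := by
    ext1
    change mapF (ρ 1).hom (τ 1).hom = 𝟙 _
    rw [map_one, map_one]
    exact mapF_id P Q
  map_mul' x y := by
    ext1
    change mapF (ρ (x.1 * y.1)).hom (τ (x.2 * y.2)).hom = mapF (ρ y.1).hom (τ y.2).hom ≫ mapF (ρ x.1).hom (τ x.2).hom
    rw [map_mul, map_mul, mapF_comp]
    rfl

/-- The product of principal covers is principal. -/
theorem isPrincipal_prod {P Q : FEt.Cat Z} {G H : Type} [Group G] [Group H] {ρ : G →* Aut P} {τ : H →* Aut Q}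
    (hP : SGA1t.IsPrincipal G P ρ) (hQ : SGA1t.IsPrincipal H Q τ) :
    SGA1t.IsPrincipal (G × H) (prodF P Q) (actF ρ τ) := by
  refine ⟨?_, ?_⟩
  · have : Surjective P.hom := ⟨hP.1⟩
    have : Surjective Q.hom := ⟨hQ.1⟩
    have h3 : Surjective (pullback.fst P.hom Q.hom ≫ P.hom) := inferInstance
    exact h3.surj
  · intro Ω _ _ ξ s t
    have key : ∀ s : FEt.fiberObj ξ (prodF P Q), (s.1 ≫ pullback.fst P.hom Q.hom) ≫ P.hom = ξ ∧
        (s.1 ≫ pullback.snd P.hom Q.hom) ≫ Q.hom = ξ := by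
      intro s
      have h1 : s.1 ≫ pullback.fst P.hom Q.hom ≫ P.hom = ξ := s.2
      refine ⟨by rw [Category.assoc, h1], ?_⟩
      rw [Category.assoc, ← pullback.condition, h1]
    obtain ⟨g, hg, hg'⟩ := hP.2 Ω ξ ⟨_, (key s).1⟩ ⟨_, (key t).1⟩
    obtain ⟨h, hh, hh'⟩ := hQ.2 Ω ξ ⟨_, (key s).2⟩ ⟨_, (key t).2⟩
    have hiff : ∀ x : G × H, (FEt.fiber ξ).map (actF ρ τ x).hom s = t ↔
        ((FEt.fiber ξ).map (ρ x.1).hom ⟨_, (key s).1⟩ = ⟨_, (key t).1⟩ ∧
          (FEt.fiber ξ).map (τ x.2).hom ⟨_, (key s).2⟩ = ⟨_, (key t).2⟩) := by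
      intro x
      have e1 : (actF ρ τ x).hom.left ≫ pullback.fst P.hom Q.hom = pullback.fst P.hom Q.hom ≫ (ρ x.1).hom.left :=
        mapF_fst _ _
      have e2 : (actF ρ τ x).hom.left ≫ pullback.snd P.hom Q.hom = pullback.snd P.hom Q.hom ≫ (τ x.2).hom.left :=
        mapF_snd _ _
      constructor
      · intro hx
        have hx' : s.1 ≫ (actF ρ τ x).hom.left = t.1 := congrArg Subtype.val hx
        refine ⟨Subtype.ext ?_, Subtype.ext ?_⟩
        · change (s.1 ≫ pullback.fst P.hom Q.hom) ≫ (ρ x.1).hom.left = t.1 ≫ pullback.fst P.hom Q.hom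
          rw [← hx', Category.assoc, Category.assoc, e1]
        · change (s.1 ≫ pullback.snd P.hom Q.hom) ≫ (τ x.2).hom.left = t.1 ≫ pullback.snd P.hom Q.hom
          rw [← hx', Category.assoc, Category.assoc, e2]
      · rintro ⟨h1, h2⟩
        have h1' : (s.1 ≫ pullback.fst P.hom Q.hom) ≫ (ρ x.1).hom.left = t.1 ≫ pullback.fst P.hom Q.hom :=
          congrArg Subtype.val h1
        have h2' : (s.1 ≫ pullback.snd P.hom Q.hom) ≫ (τ x.2).hom.left = t.1 ≫ pullback.snd P.hom Q.hom :=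
          congrArg Subtype.val h2
        refine Subtype.ext ?_
        change s.1 ≫ (actF ρ τ x).hom.left = t.1
        apply pullback.hom_ext
        · rw [Category.assoc, e1, ← h1', Category.assoc]
        · rw [Category.assoc, e2, ← h2', Category.assoc]
    refine ⟨(g, h), (hiff _).2 ⟨hg, hh⟩, ?_⟩
    rintro ⟨g', h'⟩ hx
    obtain ⟨h1, h2⟩ := (hiff _).1 hx
    exact Prod.ext (hg' g' h1) (hh' h' h2)

/-- Equivariant isomorphisms descend. -/
theorem exists_iso_of_cBij {X' X : Scheme.{u}} (k : X' ⟶ X) {G : Type} [Group G] {P Q : FEt.Cat X}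
    {ρ : G →* Aut P} {τ : G →* Aut Q} (hP : CInj (pullback.fst P.hom k)) (hQ : CInj (pullback.fst Q.hom k))
    (hPQ : CSur (pullback.fst (prodF P Q).hom k)) (hQP : CSur (pullback.fst (prodF Q P).hom k))
    (he : ∃ e' : (FEt.restrict k).obj P ≅ (FEt.restrict k).obj Q,
      ∀ x : G, (FEt.restrict k).map (ρ x).hom ≫ e'.hom = e'.hom ≫ (FEt.restrict k).map (τ x).hom) :
    ∃ e : P ≅ Q, ∀ x : G, (ρ x).hom ≫ e.hom = e.hom ≫ (τ x).hom := by
  obtain ⟨e', he'⟩ := he
  have inj : ∀ {P Q : FEt.Cat X} (_ : CInj (pullback.fst P.hom k)) (a b : P ⟶ Q),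
      (FEt.restrict k).map a = (FEt.restrict k).map b → a = b := by
    intro P Q hP a b hab
    apply MorphismProperty.Over.Hom.ext
    refine eq_of_isClopen k P.hom Q.hom hP a.left b.left (w a) (w b) ?_
    have h := congrArg (fun t => t.left ≫ pullback.fst Q.hom k) hab
    have ha : ((FEt.restrict k).map a).left ≫ pullback.fst Q.hom k = pullback.fst P.hom k ≫ a.left :=
      pullback.lift_fst _ _ _
    have hb : ((FEt.restrict k).map b).left ≫ pullback.fst Q.hom k = pullback.fst P.hom k ≫ b.left :=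
      pullback.lift_fst _ _ _
    exact ha.symm.trans (h.trans hb)
  have full : ∀ {P Q : FEt.Cat X} (_ : CInj (pullback.fst P.hom k)) (_ : CSur (pullback.fst (prodF P Q).hom k))
      (φ : (FEt.restrict k).obj P ⟶ (FEt.restrict k).obj Q), ∃ a : P ⟶ Q, (FEt.restrict k).map a = φ := by
    intro P Q hP hPQ φ
    obtain ⟨a, ha1, ha2⟩ := exists_of_isClopen k P.hom Q.hom hP hPQ φ.left (w φ)
    refine ⟨MorphismProperty.Over.homMk a ha1, ?_⟩
    apply MorphismProperty.Over.Hom.ext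
    apply pullback.hom_ext
    · refine Eq.trans (pullback.lift_fst _ _ _) ?_
      exact ha2
    · refine Eq.trans (pullback.lift_snd _ _ _) ?_
      exact (w φ).symm
  obtain ⟨a, ha⟩ := full hP hPQ e'.hom
  obtain ⟨b, hb⟩ := full hQ hQP e'.inv
  have hab : a ≫ b = 𝟙 P := by
    apply inj hP
    rw [Functor.map_comp, ha, hb, Iso.hom_inv_id, CategoryTheory.Functor.map_id]
  have hba : b ≫ a = 𝟙 Q := by
    apply inj hQ
    rw [Functor.map_comp, ha, hb, Iso.inv_hom_id, CategoryTheory.Functor.map_id]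
  refine ⟨⟨a, b, hab, hba⟩, fun x => ?_⟩
  apply inj hP
  rw [Functor.map_comp, Functor.map_comp, ha]
  exact he' x

end Prod

end K439.ClFin
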