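import Groth.Agent.EtAcyc.K439.FinSL
import Groth.Agent.Pi1.K868.BcDef

/-!
# Assembly of S17215 from faithfulness and full faithfulness over strictly henselian bases
-/

set_option autoImplicit false
universe u

open CategoryTheory CategoryTheory.Limits AlgebraicGeometry IsLocalRing

namespace K439.ClFin

open K157.ClDef Groth.Agent.Etrest.StrictLoc Groth.Agent.Sga1.UlaSL K868.Bc
  Groth.Agent.Etrest.VCBaseChange

/-! ### The closed fibre as a subset -/

theorem cBij_of_cf {T : Scheme.{u}} {O : Type u} [CommRing O] [IsLocalRing O] (q : T ⟶ Spec (CommRingCat.of O))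
    (h1 : ClInj (cf q)) (h2 : ClSurj (cf q)) : CBij (pullback.fst q (resPt O)) := by
  have hcl : IsClosedImmersion (resPt O) := IsClosedImmersion.spec_of_surjective _ residue_surjective
  let j := pullback.fst q (resPt O)
  have hj : IsClosedImmersion j := inferInstance
  have hr : Set.range j = cf q := by
    rw [Scheme.Pullback.range_fst]
    have h3 : Set.range (resPt O) = {closedPoint O} := by
      ext x
      constructor
      · rintro ⟨y, rfl⟩
        exact resPt_closedPoint O y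
      · rintro rfl
        exact ⟨closedPoint (ResidueField O), resPt_closedPoint O _⟩
    rw [h3]
    rfl
  have hcj : ∀ E : Set ↥(pullback q (resPt O)), IsClosed E → IsClosed (j '' E) := fun E hE =>
    j.isClosedEmbedding.isClosedMap E hE
  have hinj : Function.Injective j := j.isClosedEmbedding.injective
  refine ⟨fun E hE he => h1 E hE ?_, fun E' hE' => ?_⟩
  · rw [Set.eq_empty_iff_forall_notMem]
    rintro x ⟨hx, hx'⟩
    rw [← hr] at hx'
    obtain ⟨y, rfl⟩ := hx'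
    have h3 : y ∈ j ⁻¹' E := hx
    rw [he] at h3
    exact h3
  · have hD : j '' E' ⊆ cf q := by
      rw [← hr]
      exact Set.image_subset_range _ _
    obtain ⟨C, hC, hCD⟩ := h2 (j '' E') hD ⟨(hcj _ hE'.1).preimage continuous_subtype_val, by
      rw [← isClosed_compl_iff]
      have h3 : ((Subtype.val : cf q → T) ⁻¹' (j '' E'))ᶜ = (Subtype.val : cf q → T) ⁻¹' (j '' E'ᶜ) := by
        ext ⟨x, hx⟩
        rw [← hr] at hx
        obtain ⟨y, rfl⟩ := hx
        change ¬ (j y ∈ j '' E') ↔ j y ∈ j '' E'ᶜ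
        rw [hinj.mem_set_image, hinj.mem_set_image]
        rfl
      rw [h3]
      exact (hcj _ hE'.compl.1).preimage continuous_subtype_val⟩
    refine ⟨C, hC, ?_⟩
    ext y
    change j y ∈ C ↔ y ∈ E'
    have h3 : j y ∈ cf q := by
      rw [← hr]
      exact ⟨y, rfl⟩
    rw [← hinj.mem_set_image (s := E'), ← hCD]
    exact ⟨fun h => ⟨h, h3⟩, fun h => h.1⟩

/-- Clopen subsets of a finite étale cover. -/
theorem clInj_cover {X : Scheme.{u}} {O : Type u} [CommRing O] [IsLocalRing O] (q : X ⟶ Spec (CommRingCat.of O))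
    (h : ClInj (cf q)) (P : FEt.Cat X) : ClInj (cf (P.hom ≫ q)) := by
  intro C hC hCe
  have h1 : IsFinite P.hom := P.prop.1
  have h2 : Etale P.hom := P.prop.2
  have h3 : IsClopen (P.hom '' C) := ⟨P.hom.isClosedMap C hC.1, P.hom.isOpenMap C hC.2⟩
  have h4 := h _ h3 (by
    rw [Set.eq_empty_iff_forall_notMem]
    rintro _ ⟨⟨x, hx, rfl⟩, hx'⟩
    have h5 : x ∈ C ∩ cf (P.hom ≫ q) := by
      refine ⟨hx, ?_⟩
      change (P.hom ≫ q) x ∈ ({closedPoint O} : Set _)
      rw [Scheme.Hom.comp_apply]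
      exact hx'
    rw [hCe] at h5
    exact h5)
  exact Set.image_eq_empty.1 h4

/-! ### Restriction to an open subscheme of the base -/

section Restrict

variable {X Y S : Scheme.{u}} (f : X ⟶ Y) (b : Y ⟶ S) (U : S.Opens)

theorem exists_restrict {Y₁ T : Scheme.{u}} {c : Y₁ ⟶ Y} {b₁ : Y₁ ⟶ T} {t : T ⟶ S} (h : IsPullback c b₁ b t)
    (ht : Set.range t ⊆ U) : ∃ (tU : T ⟶ (U : Scheme.{u})) (cU : Y₁ ⟶ ((b ⁻¹ᵁ U : Y.Opens) : Scheme.{u})),
      tU ≫ U.ι = t ∧ cU ≫ (b ⁻¹ᵁ U).ι = c ∧ IsPullback cU b₁ (b ∣_ U) tU := by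
  let tU : T ⟶ (U : Scheme.{u}) := IsOpenImmersion.lift U.ι t (by rwa [Scheme.Opens.range_ι])
  have htU : tU ≫ U.ι = t := IsOpenImmersion.lift_fac _ _ _
  have sq := isPullback_morphismRestrict b U
  let cU : Y₁ ⟶ ((b ⁻¹ᵁ U : Y.Opens) : Scheme.{u}) := sq.lift (b₁ ≫ tU) c (by
    rw [Category.assoc, htU]
    exact h.w.symm)
  have hc1 : cU ≫ (b ∣_ U) = b₁ ≫ tU := sq.lift_fst _ _ _
  have hc2 : cU ≫ (b ⁻¹ᵁ U).ι = c := sq.lift_snd _ _ _
  refine ⟨tU, cU, htU, hc2, ?_⟩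
  refine IsPullback.of_right (h₁₂ := (b ⁻¹ᵁ U).ι) (v₁₃ := b) (h₂₂ := U.ι) ?_ hc1 sq.flip
  rw [hc2, htU]
  exact h

theorem range_subset_of_closedPoint {O : Type u} [CommRing O] [IsLocalRing O] (t : Spec (CommRingCat.of O) ⟶ S)
    (h : t (closedPoint O) ∈ U) : Set.range t ⊆ U := by
  rintro _ ⟨x, rfl⟩
  have h1 : x ⤳ closedPoint O := by
    have := IsLocalRing.specializes_closedPoint (R := O) x
    exact this
  exact (h1.map t.continuous).mem_open U.2 h

theorem clInj_restrict (hF : Faith (f ∣_ (b ⁻¹ᵁ U)) (b ∣_ U)) {O A : Type u} [CommRing O] [IsLocalRing O]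
    [CommRing A] [IsLocalRing A] (hO : HenselianLocalRing O) (hO' : IsSepClosed (ResidueField O))
    (t : Spec (CommRingCat.of O) ⟶ S) (ht : t (closedPoint O) ∈ U) {Y₁ : Scheme.{u}} {c : Y₁ ⟶ Y}
    {b₁ : Y₁ ⟶ Spec (CommRingCat.of O)} (hY : IsPullback c b₁ b t) {σ : Spec (CommRingCat.of A) ⟶ Y₁}
    (hσ : IsStrictLoc σ) (hs : b₁ (σ (closedPoint A)) = closedPoint O) {XA : Scheme.{u}} {x : XA ⟶ X}
    {fA : XA ⟶ Spec (CommRingCat.of A)} (hX : IsPullback x fA f (σ ≫ c)) : ClInj (cf (fA ≫ σ ≫ b₁)) := by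
  obtain ⟨tU, cU, h1, h2, h3⟩ := exists_restrict b U hY (range_subset_of_closedPoint U t ht)
  obtain ⟨sU, xU, h4, h5, h6⟩ := exists_restrict f (b ⁻¹ᵁ U) hX (by
    rintro _ ⟨z, rfl⟩
    rw [← h2, ← Category.assoc, Scheme.Hom.comp_apply]
    exact ((σ ≫ cU) z).2)
  have h7 : sU = σ ≫ cU := by
    rw [← cancel_mono (b ⁻¹ᵁ U).ι, h4, Category.assoc, h2]
  rw [h7] at h6
  exact hF O A hO hO' tU cU b₁ h3 σ hσ hs xU fA h6

theorem clSurj_restrict {n : ℕ} (hF : FF n (f ∣_ (b ⁻¹ᵁ U)) (b ∣_ U)) {O A : Type u} [CommRing O] [IsLocalRing O]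
    [CommRing A] [IsLocalRing A] (hO : HenselianLocalRing O) (hO' : IsSepClosed (ResidueField O))
    (hn : IsUnit (n : O))
    (t : Spec (CommRingCat.of O) ⟶ S) (ht : t (closedPoint O) ∈ U) {Y₁ : Scheme.{u}} {c : Y₁ ⟶ Y}
    {b₁ : Y₁ ⟶ Spec (CommRingCat.of O)} (hY : IsPullback c b₁ b t) {σ : Spec (CommRingCat.of A) ⟶ Y₁}
    (hσ : IsStrictLoc σ) (hs : b₁ (σ (closedPoint A)) = closedPoint O) {XA : Scheme.{u}} {x : XA ⟶ X}
    {fA : XA ⟶ Spec (CommRingCat.of A)} (hX : IsPullback x fA f (σ ≫ c))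
    (G : Type) [Group G] [Finite G] (hG : Nat.card G ∣ n) (P : FEt.Cat XA) (ρ : G →* Aut P)
    (hP : SGA1t.IsPrincipal G P ρ) : ClSurj (cf (P.hom ≫ fA ≫ σ ≫ b₁)) := by
  obtain ⟨tU, cU, h1, h2, h3⟩ := exists_restrict b U hY (range_subset_of_closedPoint U t ht)
  obtain ⟨sU, xU, h4, h5, h6⟩ := exists_restrict f (b ⁻¹ᵁ U) hX (by
    rintro _ ⟨z, rfl⟩
    rw [← h2, ← Category.assoc, Scheme.Hom.comp_apply]
    exact ((σ ≫ cU) z).2)
  have h7 : sU = σ ≫ cU := by
    rw [← cancel_mono (b ⁻¹ᵁ U).ι, h4, Category.assoc, h2]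
  rw [h7] at h6
  exact hF O A hO hO' hn tU cU b₁ h3 σ hσ hs xU fA h6 G hG P ρ hP

end Restrict

theorem isUnit_natCast {X : Scheme.{u}} {A : Type u} [CommRing A] [IsLocalRing A]
    (t : Spec (CommRingCat.of A) ⟶ X) (n : ℕ) (hn : IsUnit ((n : ℕ) : X.residueField (t (closedPoint A)))) :
    IsUnit (n : A) := by
  obtain ⟨j, -⟩ := exists_residueField_hom (resPt A ≫ t) (t (closedPoint A)) (by
    rw [Scheme.Hom.comp_apply, resPt_closedPoint])
  have h1 : IsUnit (residue A (n : A)) := by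
    have := hn.map j
    rwa [map_natCast, ← map_natCast (residue A)] at this
  exact isUnit_of_map_unit _ _ h1

variable {X Y S : Scheme.{u}} (f : X ⟶ Y) (b : Y ⟶ S) (U : S.Opens)

/-- The main assembly, for a strict localization `σR` of `Y` and a strict localization `σR'` of `Y'` over it. -/
theorem main' (hF : Faith (f ∣_ (b ⁻¹ᵁ U)) (b ∣_ U)) (hFF : ∀ n : ℕ, 0 < n → FF n (f ∣_ (b ⁻¹ᵁ U)) (b ∣_ U))
    (G : Type) [Group G] [Finite G] (hG : ∀ s ∈ U, IsUnit ((Nat.card G : ℕ) : S.residueField s))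
    {S' Y' : Scheme.{u}} (h : S' ⟶ S) (hU : Set.range h.base ⊆ (U : Set S)) (g : Y' ⟶ Y) (b' : Y' ⟶ S')
    (hpb : IsPullback g b' b h) {R R' : Type u} [CommRing R] [IsLocalRing R] [CommRing R'] [IsLocalRing R']
    (σR : Spec (CommRingCat.of R) ⟶ Y) (hσR : IsStrictLoc σR) (σR' : Spec (CommRingCat.of R') ⟶ Y')
    (hσR' : IsStrictLoc σR') (φ : R →+* R') [IsLocalHom φ] (hφ : spm φ ≫ σR = σR' ≫ g)
    (P Q : FEt.Cat (pullback f σR)) (ρ : G →* Aut P) (τ : G →* Aut Q)
    (hP : SGA1t.IsPrincipal G P ρ) (hQ : SGA1t.IsPrincipal G Q τ)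
    (he : ∃ e' : (FEt.restrict (pullback.fst (pullback.snd f σR) (spm φ))).obj P ≅
        (FEt.restrict (pullback.fst (pullback.snd f σR) (spm φ))).obj Q,
      ∀ x : G, (FEt.restrict (pullback.fst (pullback.snd f σR) (spm φ))).map (ρ x).hom ≫ e'.hom =
        e'.hom ≫ (FEt.restrict (pullback.fst (pullback.snd f σR) (spm φ))).map (τ x).hom) :
    ∃ e : P ≅ Q, ∀ x : G, (ρ x).hom ≫ e.hom = e.hom ≫ (τ x).hom := by
  have iR := hσR.henselian
  have iR2 := hσR.sepClosed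
  have iR' := hσR'.henselian
  have iR2' := hσR'.sepClosed
  -- the two bases
  obtain ⟨A, _, _, t₀, ht₀, htc⟩ := exists_isStrictLoc S ((σR ≫ b) (closedPoint R))
  obtain ⟨β, hβl, hβ⟩ := exists_map ht₀ (σR ≫ b) htc.symm
  obtain ⟨A', _, _, t₁, ht₁, htc₁⟩ := exists_isStrictLoc S' ((σR' ≫ b') (closedPoint R'))
  obtain ⟨β', hβl', hβ'⟩ := exists_map ht₁ (σR' ≫ b') htc₁.symm
  have iA := ht₀.henselian
  have iA2 := ht₀.sepClosed
  have iA' := ht₁.henselian
  have iA2' := ht₁.sepClosed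
  obtain ⟨α, hαl, hα, hc⟩ := exists_map_over ht₀ (t₁ ≫ h) β' (φ.comp β) (by
    rw [spm_comp, Category.assoc, hβ, ← Category.assoc, hφ, Category.assoc, hpb.w, ← Category.assoc, ← hβ',
      Category.assoc])
  -- the strict localizations of the base changes
  have w₁ := weaklyEtale_of_isStrictLoc ht₀
  have w₂ := weaklyEtale_of_isStrictLoc ht₁
  let σ : Spec (CommRingCat.of R) ⟶ pullback b t₀ := pullback.lift σR (spm β) hβ.symm
  have hσ1 : σ ≫ pullback.fst b t₀ = σR := pullback.lift_fst _ _ _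
  have hσ2 : σ ≫ pullback.snd b t₀ = spm β := pullback.lift_snd _ _ _
  have hσ : IsStrictLoc σ := IsStrictLoc.of_comp (pullback.fst b t₀) (by rw [hσ1]; exact hσR)
  let σ' : Spec (CommRingCat.of R') ⟶ pullback b (t₁ ≫ h) := pullback.lift (σR' ≫ g) (spm β') (by
    rw [Category.assoc, hpb.w, ← Category.assoc, ← hβ', Category.assoc])
  have hσ1' : σ' ≫ pullback.fst b (t₁ ≫ h) = σR' ≫ g := pullback.lift_fst _ _ _
  have hσ2' : σ' ≫ pullback.snd b (t₁ ≫ h) = spm β' := pullback.lift_snd _ _ _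
  let v : pullback b (t₁ ≫ h) ⟶ Y' := hpb.lift (pullback.fst b (t₁ ≫ h)) (pullback.snd b (t₁ ≫ h) ≫ t₁) (by
    rw [pullback.condition, Category.assoc])
  have hv1 : v ≫ g = pullback.fst b (t₁ ≫ h) := hpb.lift_fst _ _ _
  have hv2 : v ≫ b' = pullback.snd b (t₁ ≫ h) ≫ t₁ := hpb.lift_snd _ _ _
  have sqv : IsPullback v (pullback.snd b (t₁ ≫ h)) b' t₁ := by
    refine IsPullback.of_right (h₁₂ := g) (v₁₃ := b) (h₂₂ := h) ?_ hv2 hpb
    rw [hv1]
    exact IsPullback.of_hasPullback _ _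
  have wv : WeaklyEtale v := MorphismProperty.of_isPullback (P := @WeaklyEtale) sqv.flip w₂
  have hσ' : IsStrictLoc σ' := IsStrictLoc.of_comp v (by
    have : σ' ≫ v = σR' := by
      apply hpb.hom_ext
      · rw [Category.assoc, hv1, hσ1']
      · rw [Category.assoc, hv2, ← Category.assoc, hσ2', hβ']
    rw [this]; exact hσR')
  -- the points
  have hcl1 : (pullback.snd b t₀) (σ (closedPoint R)) = closedPoint A := by
    rw [← Scheme.Hom.comp_apply, hσ2]
    exact closedPoint_map β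
  have hcl2 : (pullback.snd b (t₁ ≫ h)) (σ' (closedPoint R')) = closedPoint A' := by
    rw [← Scheme.Hom.comp_apply, hσ2']
    exact closedPoint_map β'
  have hU1 : (t₁ ≫ h) (closedPoint A') ∈ U := by
    rw [Scheme.Hom.comp_apply]
    exact hU ⟨_, rfl⟩
  have hU0 : t₀ (closedPoint A) ∈ U := by
    rw [← closedPoint_map α, ← Scheme.Hom.comp_apply, hα]
    exact hU1
  have hn0 : IsUnit ((Nat.card (G × G) : ℕ) : A) := by
    rw [Nat.card_prod, Nat.cast_mul]
    exact (isUnit_natCast t₀ _ (hG _ hU0)).mul (isUnit_natCast t₀ _ (hG _ hU0))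
  have hn1 : IsUnit ((Nat.card (G × G) : ℕ) : A') := by
    rw [Nat.card_prod, Nat.cast_mul]
    exact (isUnit_natCast (t₁ ≫ h) _ (hG _ hU1)).mul (isUnit_natCast (t₁ ≫ h) _ (hG _ hU1))
  -- the schemes `X_R`, `X_R'`
  have sqX : IsPullback (pullback.fst f σR) (pullback.snd f σR) f (σ ≫ pullback.fst b t₀) := by
    rw [hσ1]
    exact IsPullback.of_hasPullback _ _
  let kb := pullback.fst (pullback.snd f σR) (spm φ)
  have sqk : IsPullback kb (pullback.snd (pullback.snd f σR) (spm φ)) (pullback.snd f σR) (spm φ) :=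
    IsPullback.of_hasPullback _ _
  have sqX' : IsPullback (kb ≫ pullback.fst f σR) (pullback.snd (pullback.snd f σR) (spm φ)) f
      (σ' ≫ pullback.fst b (t₁ ≫ h)) := by
    rw [hσ1', ← hφ]
    exact sqk.paste_horiz (IsPullback.of_hasPullback f σR)
  have key : ∀ (H : Type) [Group H] [Finite H], Nat.card H ∣ Nat.card (G × G) →
      ∀ (T : FEt.Cat (pullback f σR)) (θ : H →* Aut T), SGA1t.IsPrincipal H T θ →
        CBij (pullback.fst T.hom kb) := by
    intro H _ _ hH T θ hT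
    have hpos : 0 < Nat.card (G × G) := Nat.card_pos
    have hT' := Groth.Agent.Pi1.H408.PrincRestrict.isPrincipal_restrict kb T θ hT
    have a1 := clInj_restrict f b U hF iA iA2 t₀ hU0 (IsPullback.of_hasPullback b t₀) hσ hcl1 sqX
    have a2 := clSurj_restrict f b U (hFF _ hpos) iA iA2 hn0 t₀ hU0 (IsPullback.of_hasPullback b t₀) hσ hcl1 sqX
      H hH T θ hT
    have a1' := clInj_restrict f b U hF iA' iA2' (t₁ ≫ h) hU1 (IsPullback.of_hasPullback b (t₁ ≫ h)) hσ' hcl2 sqX'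
    have a2' := clSurj_restrict f b U (hFF _ hpos) iA' iA2' hn1 (t₁ ≫ h) hU1
      (IsPullback.of_hasPullback b (t₁ ≫ h)) hσ' hcl2 sqX' H hH _ _ hT'
    have b1 := cBij_of_cf _ (clInj_cover _ a1 T) a2
    have b1' := cBij_of_cf _ (clInj_cover _ a1' ((FEt.restrict kb).obj T)) a2'
    have q1 : T.hom ≫ pullback.snd f σR ≫ σ ≫ pullback.snd b t₀ = (T.hom ≫ pullback.snd f σR) ≫ spm β := by
      rw [hσ2]
      exact (Category.assoc _ _ _).symm
    have q1' : ((FEt.restrict kb).obj T).hom ≫ pullback.snd (pullback.snd f σR) (spm φ) ≫ σ' ≫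
        pullback.snd b (t₁ ≫ h) = (((FEt.restrict kb).obj T).hom ≫ pullback.snd (pullback.snd f σR) (spm φ)) ≫
          spm β' := by
      rw [hσ2']
      exact (Category.assoc _ _ _).symm
    have c1 : CBij (pullback.fst ((T.hom ≫ pullback.snd f σR) ≫ spm β) (resPt A)) := by
      rw [← q1]
      exact b1
    have c1' : CBij (pullback.fst ((((FEt.restrict kb).obj T).hom ≫ pullback.snd (pullback.snd f σR) (spm φ)) ≫
        spm β') (resPt A')) := by
      rw [← q1']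
      exact b1'
    refine cBij_core (IsPullback.of_hasPullback b t₀) (IsPullback.of_hasPullback b (t₁ ≫ h)) hσ hσ' β hσ2 β' hσ2'
      α hα φ (by rw [hσ1, hσ1']; exact hφ) hc.symm _ _ (pullback.fst T.hom kb) ?_ c1 c1'
    exact (IsPullback.of_hasPullback T.hom kb).paste_vert sqk
  have d1 : Nat.card G ∣ Nat.card (G × G) := by
    rw [Nat.card_prod]
    exact Dvd.intro _ rfl
  exact exists_iso_of_cBij kb (key G d1 P ρ hP).1 (key G d1 Q τ hQ).1
    (key (G × G) dvd_rfl _ _ (isPrincipal_prod hP hQ)).2 (key (G × G) dvd_rfl _ _ (isPrincipal_prod hQ hP)).2 he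

/-- **Assembly of S17215.** -/
theorem main (hF : Faith (f ∣_ (b ⁻¹ᵁ U)) (b ∣_ U)) (hFF : ∀ n : ℕ, 0 < n → FF n (f ∣_ (b ⁻¹ᵁ U)) (b ∣_ U)) :
      ∀ (G : Type) [Group G] [Finite G], (∀ s ∈ U, IsUnit ((Nat.card G : ℕ) : S.residueField s)) →
      ∀ ⦃S' Y' : Scheme.{u}⦄ (h : S' ⟶ S), Set.range h.base ⊆ (U : Set S) →
      ∀ (g : Y' ⟶ Y) (b' : Y' ⟶ S'), IsPullback g b' b h →
      ∀ (y' : Y') (R : Type u) [CommRing R] [IsLocalRing R] [Algebra (Y.presheaf.stalk (g.base y')) R]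
        [IsLocalHom (algebraMap (Y.presheaf.stalk (g.base y')) R)]
        [Hensel.IsStrictHenselization (Y.presheaf.stalk (g.base y')) R]
        (R' : Type u) [CommRing R'] [IsLocalRing R'] [Algebra (Y'.presheaf.stalk y') R']
        [IsLocalHom (algebraMap (Y'.presheaf.stalk y') R')] [Hensel.IsStrictHenselization (Y'.presheaf.stalk y') R']
        [Algebra R R'],
        (algebraMap R R').comp (algebraMap (Y.presheaf.stalk (g.base y')) R) =
          (algebraMap (Y'.presheaf.stalk y') R').comp (g.stalkMap y').hom →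
      letI σ := Hens2.specOf Y (g.base y') R
      letI m : Spec (CommRingCat.of R') ⟶ Spec (CommRingCat.of R) := Spec.map (CommRingCat.ofHom (algebraMap R R'))
      letI fR := pullback.snd f σ
      letI kb := pullback.fst fR m
      ∀ (P Q : FEt.Cat (pullback f σ)) (ρ : G →* Aut P) (τ : G →* Aut Q),
        SGA1t.IsPrincipal G P ρ → SGA1t.IsPrincipal G Q τ →
        (∃ e' : (FEt.restrict kb).obj P ≅ (FEt.restrict kb).obj Q,
          ∀ x : G, (FEt.restrict kb).map (ρ x).hom ≫ e'.hom = e'.hom ≫ (FEt.restrict kb).map (τ x).hom) →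
        ∃ e : P ≅ Q, ∀ x : G, (ρ x).hom ≫ e.hom = e.hom ≫ (τ x).hom := by
  intro G _ _ hG S' Y' h hU g b' hpb y' R _ _ _ _ hR R' _ _ _ _ hR' _ hcomp P Q ρ τ hP hQ he
  have hloc : IsLocalHom (algebraMap R R') := by
    have h1 := Groth.Agent.Hensel.Exist.map_maximalIdeal_of_isStrictHenselization
      (Y.presheaf.stalk (g.base y')) R
    have h3 : IsLocalHom (g.stalkMap y').hom := inferInstance
    have h4 : IsLocalHom (algebraMap (Y'.presheaf.stalk y') R') := inferInstance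
    have h5 := ((local_hom_TFAE (g.stalkMap y').hom).out 0 2).1 h3
    have h6 := ((local_hom_TFAE (algebraMap (Y'.presheaf.stalk y') R')).out 0 2).1 h4
    have h2 : (maximalIdeal R).map (algebraMap R R') ≤ maximalIdeal R' := by
      rw [← h1, Ideal.map_map, hcomp, ← Ideal.map_map]
      exact (Ideal.map_mono h5).trans h6
    exact ((local_hom_TFAE (algebraMap R R')).out 0 2).2 h2
  exact main' f b U hF hFF G hG h hU g b' hpb (Hens2.specOf Y (g.base y') R) (isStrictLoc_specOf Y (g.base y') R)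
    (Hens2.specOf Y' y' R') (isStrictLoc_specOf Y' y' R') (algebraMap R R')
    ((specOf_comm g y' R R' (algebraMap R R')).1 hcomp) P Q ρ τ hP hQ he

end K439.ClFin
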