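import Groth.Agent.EtAcyc.K439.FinProd
import Groth.Agent.EtAcyc.K219.DiscGood
import Groth.Agent.Sga2lef.H107.FibreLoc

/-!
# Clopen subsets and closed fibres for two compatible strictly henselian bases
-/

set_option autoImplicit false
universe u

open CategoryTheory CategoryTheory.Limits AlgebraicGeometry IsLocalRing

namespace K439.ClFin

open K157.ClDef Groth.Agent.Etrest.StrictLoc Groth.Agent.Etrest.StrictLocBC Groth.Agent.Sga2lef.H107.FibreLoc
  K548.Ac K548.Good

section Quot

variable {A R : Type u} [CommRing A] [IsLocalRing A] [CommRing R] [IsLocalRing R] (β : A →+* R)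

/-- The ring of the closed fibre. -/
abbrev DD : Type u := R ⧸ (maximalIdeal A).map β

/-- The residue field of the base acts on the closed fibre. -/
noncomputable def psi : ResidueField A →+* DD β :=
  Ideal.Quotient.lift (maximalIdeal A) ((Ideal.Quotient.mk ((maximalIdeal A).map β)).comp β) (fun a ha => by
    rw [RingHom.comp_apply, Ideal.Quotient.eq_zero_iff_mem]
    exact Ideal.mem_map_of_mem _ ha)

theorem psi_residue (a : A) : psi β (residue A a) = Ideal.Quotient.mk _ (β a) := rfl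

theorem sqD : IsPullback (spm (Ideal.Quotient.mk ((maximalIdeal A).map β))) (spm (psi β)) (spm β) (resPt A) :=
  isPullback_quot β (residue A) residue_surjective _ (by rw [ker_residue]) (psi β) (RingHom.ext fun _ => rfl)

theorem isLocalRing_DD [hβ : IsLocalHom β] : IsLocalRing (DD β) := by
  have hle : (maximalIdeal A).map β ≤ maximalIdeal R := by
    rw [Ideal.map_le_iff_le_comap]
    exact ((local_hom_TFAE β).out 0 3).1 hβ
  have hnt : Nontrivial (R ⧸ (maximalIdeal A).map β) :=
    Ideal.Quotient.nontrivial_iff.2 (fun h => (maximalIdeal.isMaximal R).ne_top (top_le_iff.1 (h ▸ hle)))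
  exact IsLocalRing.of_surjective' (Ideal.Quotient.mk _) Ideal.Quotient.mk_surjective

variable {Y₁ : Scheme.{u}} {b₁ : Y₁ ⟶ Spec (CommRingCat.of A)} {σ : Spec (CommRingCat.of R) ⟶ Y₁}

/-- The closed fibre of a strict localization. -/
noncomputable def rho (hβ : σ ≫ b₁ = spm β) :
    Spec (CommRingCat.of (DD β)) ⟶ pullback b₁ (resPt A) :=
  pullback.lift (spm (Ideal.Quotient.mk ((maximalIdeal A).map β)) ≫ σ) (spm (psi β)) (by
    rw [Category.assoc, hβ, (sqD β).w])

theorem rho_fst (hβ : σ ≫ b₁ = spm β) : rho β hβ ≫ pullback.fst b₁ (resPt A) =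
    spm (Ideal.Quotient.mk ((maximalIdeal A).map β)) ≫ σ := pullback.lift_fst _ _ _

theorem rho_snd (hβ : σ ≫ b₁ = spm β) : rho β hβ ≫ pullback.snd b₁ (resPt A) = spm (psi β) :=
  pullback.lift_snd _ _ _

theorem isStrictLoc_rho [IsLocalHom β] [IsLocalRing (DD β)] (hσ : IsStrictLoc σ) (hβ : σ ≫ b₁ = spm β) :
    IsStrictLoc (rho β hβ) := by
  have h1 : IsPullback (pullback.fst b₁ (resPt A)) (pullback.snd b₁ (resPt A)) b₁ (resPt A) :=
    IsPullback.of_hasPullback _ _
  have sq4 : IsPullback (rho β hβ) (spm (Ideal.Quotient.mk ((maximalIdeal A).map β)))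
      (pullback.fst b₁ (resPt A)) σ := by
    have := IsPullback.of_bot (h₁₁ := spm (Ideal.Quotient.mk ((maximalIdeal A).map β)))
      (v₁₁ := rho β hβ) (v₁₂ := σ) (h₂₁ := pullback.fst b₁ (resPt A)) (v₂₁ := pullback.snd b₁ (resPt A))
      (v₂₂ := b₁) (h₃₁ := resPt A) (by rw [rho_snd, hβ]; exact sqD β) (rho_fst β hβ).symm h1
    exact this.flip
  have : IsLocalHom (Ideal.Quotient.mk ((maximalIdeal A).map β)) :=
    IsLocalHom.of_surjective _ Ideal.Quotient.mk_surjective
  have h2 := isStrictLoc_of_isPullback hσ sq4 (isLocAt_id (DD β)) (Ideal.Quotient.mk ((maximalIdeal A).map β))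
    (RingHom.isIntegral_of_surjective _ Ideal.Quotient.mk_surjective) (by rw [Category.id_comp])
  rwa [Category.id_comp] at h2

end Quot

section Core

variable {X Y S : Scheme.{u}} {b : Y ⟶ S} {A R A' R' : Type u} [CommRing A] [IsLocalRing A]
  [CommRing R] [IsLocalRing R] [CommRing A'] [IsLocalRing A'] [CommRing R'] [IsLocalRing R']
  {t : Spec (CommRingCat.of A) ⟶ S} {t' : Spec (CommRingCat.of A') ⟶ S}
  {Y₁ Y₁' : Scheme.{u}} {c : Y₁ ⟶ Y} {b₁ : Y₁ ⟶ Spec (CommRingCat.of A)} (hY : IsPullback c b₁ b t)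
  {c' : Y₁' ⟶ Y} {b₁' : Y₁' ⟶ Spec (CommRingCat.of A')} (hY' : IsPullback c' b₁' b t')
  {σ : Spec (CommRingCat.of R) ⟶ Y₁} (hσ : IsStrictLoc σ)
  {σ' : Spec (CommRingCat.of R') ⟶ Y₁'} (hσ' : IsStrictLoc σ')
  (β : A →+* R) [IsLocalHom β] (hβ : σ ≫ b₁ = spm β)
  (β' : A' →+* R') [IsLocalHom β'] (hβ' : σ' ≫ b₁' = spm β')
  (α : A →+* A') [IsLocalHom α] (hα : spm α ≫ t = t')
  (φ : R →+* R') [IsLocalHom φ] (hφ : spm φ ≫ σ ≫ c = σ' ≫ c')
  (hc : φ.comp β = β'.comp α)

include hc in
theorem le_comap : (maximalIdeal A).map β ≤ ((maximalIdeal A').map β').comap φ := by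
  rw [Ideal.map_le_iff_le_comap]
  intro a ha
  rw [Ideal.mem_comap, Ideal.mem_comap, ← RingHom.comp_apply, hc, RingHom.comp_apply]
  have hle : maximalIdeal A ≤ (maximalIdeal A').comap α := by
    have h0 : IsLocalHom α := inferInstance
    exact ((local_hom_TFAE α).out 0 3).1 h0
  exact Ideal.mem_map_of_mem _ (hle ha)

/-- The map of closed fibres. -/
noncomputable def phiBar : DD β →+* DD β' := Ideal.quotientMap _ φ (le_comap β β' α φ hc)

theorem phiBar_mk : (phiBar β β' α φ hc).comp (Ideal.Quotient.mk _) = (Ideal.Quotient.mk _).comp φ :=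
  RingHom.ext fun _ => rfl

theorem phiBar_psi : (phiBar β β' α φ hc).comp (psi β) = (psi β').comp (ResidueField.map α) := by
  apply RingHom.ext
  intro x
  obtain ⟨a, rfl⟩ := residue_surjective x
  change Ideal.Quotient.mk _ (φ (β a)) = Ideal.Quotient.mk _ (β' (α a))
  rw [← RingHom.comp_apply φ, hc]
  rfl

include hY hY' hσ hσ' hβ hβ' hα hφ in
theorem isCSub_phiBar : IsCSub (spm (phiBar β β' α φ hc)) := by
  have i1 := isLocalRing_DD β
  have i2 := isLocalRing_DD β'
  -- comparison of the base changes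
  let d : Y₁' ⟶ Y₁ := hY.lift c' (b₁' ≫ spm α) (by rw [Category.assoc, hα]; exact hY'.w)
  have hd1 : d ≫ c = c' := hY.lift_fst _ _ _
  have hd2 : d ≫ b₁ = b₁' ≫ spm α := hY.lift_snd _ _ _
  have sqd : IsPullback d b₁' b₁ (spm α) := by
    refine IsPullback.of_right (h₁₂ := c) (v₁₃ := b) (h₂₂ := t) ?_ hd2 hY
    rw [hd1, hα]
    exact hY'
  have h1 : IsPullback (pullback.fst b₁ (resPt A)) (pullback.snd b₁ (resPt A)) b₁ (resPt A) :=
    IsPullback.of_hasPullback _ _
  have h1' : IsPullback (pullback.fst b₁' (resPt A')) (pullback.snd b₁' (resPt A')) b₁' (resPt A') :=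
    IsPullback.of_hasPullback _ _
  let w : pullback b₁' (resPt A') ⟶ pullback b₁ (resPt A) :=
    pullback.lift (pullback.fst b₁' (resPt A') ≫ d) (pullback.snd b₁' (resPt A') ≫ spm (ResidueField.map α)) (by
      rw [Category.assoc, Category.assoc, hd2, ← resPt_spm, ← Category.assoc, pullback.condition, Category.assoc])
  have hw1 : w ≫ pullback.fst b₁ (resPt A) = pullback.fst b₁' (resPt A') ≫ d := pullback.lift_fst _ _ _
  have hw2 : w ≫ pullback.snd b₁ (resPt A) = pullback.snd b₁' (resPt A') ≫ spm (ResidueField.map α) :=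
    pullback.lift_snd _ _ _
  have sqw : IsPullback w (pullback.snd b₁' (resPt A')) (pullback.snd b₁ (resPt A)) (spm (ResidueField.map α)) := by
    refine IsPullback.of_right (h₁₂ := pullback.fst b₁ (resPt A)) (v₁₃ := b₁) (h₂₂ := resPt A) ?_ hw2 h1
    rw [hw1, ← resPt_spm]
    exact h1'.paste_horiz sqd
  have hgood : IsGood w := (K219.DiscGood.isGood_spm_field (ResidueField.map α)).of_isPullback sqw.flip
  have hloc : IsLocalHom (phiBar β β' α φ hc) := by
    constructor
    intro x hx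
    obtain ⟨r, rfl⟩ := Ideal.Quotient.mk_surjective x
    have h3 : IsUnit (Ideal.Quotient.mk ((maximalIdeal A').map β') (φ r)) := hx
    have h4 : IsLocalHom (Ideal.Quotient.mk ((maximalIdeal A').map β')) :=
      IsLocalHom.of_surjective _ Ideal.Quotient.mk_surjective
    exact ((isUnit_of_map_unit φ r (isUnit_of_map_unit _ _ h3))).map _
  refine isCSub_of_isGood hgood (isStrictLoc_rho β hσ hβ) (isStrictLoc_rho β' hσ' hβ') (phiBar β β' α φ hc) hloc ?_
  have e1 : spm φ ≫ σ = σ' ≫ d := by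
    apply hY.hom_ext
    · rw [Category.assoc, Category.assoc, hd1, hφ]
    · rw [Category.assoc, Category.assoc, hβ, hd2, ← Category.assoc, hβ', ← spm_comp, ← spm_comp, hc]
  apply h1.hom_ext
  · rw [Category.assoc, Category.assoc, rho_fst, hw1, ← Category.assoc (rho β' hβ'), rho_fst, Category.assoc, ← e1,
      ← Category.assoc, ← Category.assoc, ← spm_comp, ← spm_comp, phiBar_mk]
  · rw [Category.assoc, Category.assoc, rho_snd, hw2, ← Category.assoc (rho β' hβ'), rho_snd, ← spm_comp,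
      ← spm_comp, phiBar_psi]

section

variable {T : Scheme.{u}} (q : T ⟶ Spec (CommRingCat.of R))

/-- The closed fibre of `T` over the closed fibre of `R`. -/
noncomputable def rr : pullback (q ≫ spm β) (resPt A) ⟶ Spec (CommRingCat.of (DD β)) :=
  (sqD β).lift (pullback.fst (q ≫ spm β) (resPt A) ≫ q) (pullback.snd (q ≫ spm β) (resPt A)) (by
    rw [Category.assoc, pullback.condition])

omit [IsLocalHom β] in
theorem sqT : IsPullback (pullback.fst (q ≫ spm β) (resPt A)) (rr β q) q
    (spm (Ideal.Quotient.mk ((maximalIdeal A).map β))) := by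
  refine IsPullback.of_bot (v₂₁ := spm (psi β)) (v₂₂ := spm β) (h₃₁ := resPt A) ?_ ?_ (sqD β)
  · rw [rr, IsPullback.lift_snd]
    exact IsPullback.of_hasPullback _ _
  · rw [rr, IsPullback.lift_fst]

end

include hY hY' hσ hσ' hβ hβ' hα hφ hc in
/-- **Core.** Clopen subsets of `T` and of `T' = T ×_R R'` agree if both agree with the clopen subsets of their closed
fibres. -/
theorem cBij_core {T T' : Scheme.{u}} (q : T ⟶ Spec (CommRingCat.of R)) (q' : T' ⟶ Spec (CommRingCat.of R'))
    (k : T' ⟶ T) (hk : IsPullback k q' q (spm φ))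
    (hT : CBij (pullback.fst (q ≫ spm β) (resPt A)))
    (hT' : CBij (pullback.fst (q' ≫ spm β') (resPt A'))) : CBij k := by
  have hsub := isCSub_phiBar hY hY' hσ hσ' β hβ β' hβ' α hα φ hφ hc
  have emk : spm (Ideal.Quotient.mk ((maximalIdeal A').map β')) ≫ spm φ =
      spm (phiBar β β' α φ hc) ≫ spm (Ideal.Quotient.mk ((maximalIdeal A).map β)) := by
    rw [← spm_comp, ← spm_comp, phiBar_mk]
  let p : pullback (q' ≫ spm β') (resPt A') ⟶ pullback (q ≫ spm β) (resPt A) :=
    (sqT β q).lift (pullback.fst (q' ≫ spm β') (resPt A') ≫ k) (rr β' q' ≫ spm (phiBar β β' α φ hc)) (by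
      rw [Category.assoc, Category.assoc, hk.w, ← emk, ← Category.assoc, (sqT β' q').w, Category.assoc])
  have hp1 : p ≫ pullback.fst (q ≫ spm β) (resPt A) = pullback.fst (q' ≫ spm β') (resPt A') ≫ k :=
    (sqT β q).lift_fst _ _ _
  have hp2 : p ≫ rr β q = rr β' q' ≫ spm (phiBar β β' α φ hc) := (sqT β q).lift_snd _ _ _
  have sqp : IsPullback p (rr β' q') (rr β q) (spm (phiBar β β' α φ hc)) := by
    refine IsPullback.of_right (h₁₂ := pullback.fst (q ≫ spm β) (resPt A)) (v₁₃ := q)
      (h₂₂ := spm (Ideal.Quotient.mk ((maximalIdeal A).map β))) ?_ hp2 (sqT β q)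
    rw [hp1, ← emk]
    exact (sqT β' q').paste_horiz hk
  exact cBij_of_square p _ _ k hp1.symm hT (cBij_of_isCSub (hsub.of_isPullback sqp.flip)) hT'

end Core

end K439.ClFin
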